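/-
Certificate data of a coset enumeration.
-/
import Cfsg.Agent.Lib.CosetEnum.ONZ.Data

set_option autoImplicit false
set_option maxRecDepth 1000000

namespace CfsgLib.CosetEnum.ONZ

open CfsgLib.CosetEnum

/-- Completion of the rows from 0. -/
noncomputable def rows0 : List (List ℕ) := [[(nat_lit 0xa200000002), (nat_lit 0xa300001002), (nat_lit 0xa400002002), (nat_lit 0xbc00003002), (nat_lit 0xb700004002), (nat_lit 0xa700005002), (nat_lit 0xbd00006002)]]

theorem rows0_ok : okRows data table 190 0 rows0 = true := by decide +kernel

theorem rows0_len : rows0.length = 1 := by decide +kernel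

end CfsgLib.CosetEnum.ONZ
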